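import Groth.Agent.DensePtsLib.Main
import Groth.Agent.AlgSpLib.ReducedSmooth
import Mathlib.AlgebraicGeometry.AlgClosed.Basic

/-!
# Points in an algebraically closed field and reduced schemes
-/

set_option autoImplicit false
set_option backward.isDefEq.respectTransparency false

universe u

open CategoryTheory CategoryTheory.Limits MonoidalCategory CartesianMonoidalCategory AlgebraicGeometry
  TopologicalSpace

namespace Groth.Agent.DensePts

variable {k K : Type u} [Field k] [Field K] [Algebra k K]

/-- A morphism from a reduced scheme factors through a closed subscheme containing its image. -/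
theorem factors_of_range {S : Scheme.{u}} {X Y Z : Over S} [IsReduced X.left] (φ : X ⟶ Y) (c : Z ⟶ Y)
    [IsClosedImmersion c.left] (h : Set.range φ.left.base ⊆ Set.range c.left.base) : ∃ ψ : X ⟶ Z, ψ ≫ c = φ := by
  haveI : IsClosedImmersion (pullback.snd c.left φ.left) := MorphismProperty.pullback_snd _ _ inferInstance
  haveI : Surjective (pullback.snd c.left φ.left) := by
    refine ⟨fun x => ?_⟩
    obtain ⟨z, hz⟩ := h ⟨x, rfl⟩
    obtain ⟨w, -, hw⟩ := Scheme.Pullback.exists_preimage_pullback z x hz
    exact ⟨w, hw⟩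
  haveI := isIso_of_isClosedImmersion_of_surjective (pullback.snd c.left φ.left)
  have e : (inv (pullback.snd c.left φ.left) ≫ pullback.fst c.left φ.left) ≫ c.left = φ.left := by
    rw [Category.assoc, pullback.condition, IsIso.inv_hom_id_assoc]
  exact ⟨Over.homMk (inv (pullback.snd c.left φ.left) ≫ pullback.fst c.left φ.left) (by
    conv_lhs => rw [← Over.w c]
    rw [← Category.assoc, e, Over.w]), Over.OverMorphism.ext e⟩

/-- A nonempty open of a scheme locally of finite type has points in an algebraically closed extension. -/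
theorem exists_point_mem [IsAlgClosed K] {X : Over (Spec (CommRingCat.of k))} [LocallyOfFiniteType X.hom]
    {O : Set X.left} (hO : IsOpen O) (hne : O.Nonempty) : ∃ x : pt k K ⟶ X, ∀ q, x.left.base q ∈ O := by
  let ξ := Spec.map (CommRingCat.ofHom (algebraMap k K))
  let f : pullback X.hom ξ ⟶ Spec (CommRingCat.of K) := pullback.snd X.hom ξ
  haveI : Surjective (pullback.fst X.hom ξ) := MorphismProperty.pullback_fst (P := @Surjective) _ _ inferInstance
  haveI : LocallyOfFiniteType f := MorphismProperty.pullback_snd _ _ inferInstance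
  haveI : JacobsonSpace ↥(pullback X.hom ξ) := LocallyOfFiniteType.jacobsonSpace f
  obtain ⟨x, hx⟩ := hne
  obtain ⟨w, rfl⟩ := (pullback.fst X.hom ξ).surjective x
  have hO' : IsOpen ((pullback.fst X.hom ξ).base ⁻¹' O) := hO.preimage (pullback.fst X.hom ξ).continuous
  obtain ⟨p, hpO, hp⟩ := nonempty_inter_closedPoints (Z := (pullback.fst X.hom ξ).base ⁻¹' O) ⟨w, hx⟩ hO'.isLocallyClosed
  refine ⟨Over.homMk (pointOfClosedPoint f p hp ≫ pullback.fst X.hom ξ) ?_, fun q => ?_⟩
  · show (pointOfClosedPoint f p hp ≫ pullback.fst X.hom ξ) ≫ X.hom = ξ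
    rw [Category.assoc, pullback.condition]
    exact (Category.assoc _ _ _).symm.trans (by rw [pointOfClosedPoint_comp, Category.id_comp])
  · show (pointOfClosedPoint f p hp ≫ pullback.fst X.hom ξ).base q ∈ O
    rw [Scheme.Hom.comp_apply, pointOfClosedPoint_apply]
    exact hpO

/-- A morphism from a reduced scheme factors through a closed subscheme if it does on points in an
algebraically closed extension. -/
theorem factors_of_points_reduced [IsAlgClosed K] {X Y Z : Over (Spec (CommRingCat.of k))}
    [LocallyOfFiniteType X.hom] [IsReduced X.left] (φ : X ⟶ Y) (c : Z ⟶ Y) [IsClosedImmersion c.left]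
    (h : ∀ x : pt k K ⟶ X, ∃ z : pt k K ⟶ Z, z ≫ c = x ≫ φ) : ∃ ψ : X ⟶ Z, ψ ≫ c = φ := by
  refine factors_of_range φ c ?_
  by_contra hne
  obtain ⟨_, ⟨x₀, rfl⟩, hx₀⟩ := Set.not_subset.1 hne
  obtain ⟨x, hx⟩ := exists_point_mem (K := K)
    ((c.left.isClosedEmbedding.isClosed_range.preimage φ.left.continuous).isOpen_compl) ⟨x₀, hx₀⟩
  obtain ⟨z, hz⟩ := h x
  exact hx (IsLocalRing.closedPoint K) ⟨z.left.base (IsLocalRing.closedPoint K), congr($(hz).left.base (IsLocalRing.closedPoint K))⟩

end Groth.Agent.DensePts
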