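import Groth.Agent.GenusZeroLib.Rational
import Groth.Agent.GeomRedFieldLib.Scheme
import Groth.Agent.AbSchLib.Flat
import Groth.Agent.WeilResLib.Equalizer

/-!
# Points in a separably closed field are schematically dense

For a geometrically reduced scheme `X` locally of finite type over a field `k` and a separably closed
extension `K` of `k`, a closed subscheme through which all `K`-points factor is everything.
-/

set_option autoImplicit false
set_option backward.isDefEq.respectTransparency false

universe u

open CategoryTheory CategoryTheory.Limits MonoidalCategory CartesianMonoidalCategory AlgebraicGeometry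
  TopologicalSpace

namespace Groth.Agent.DensePts

variable {k K : Type u} [Field k] [Field K] [Algebra k K]

/-- The spectrum of the extension. -/
noncomputable abbrev pt (k K : Type u) [Field k] [Field K] [Algebra k K] : Over (Spec (CommRingCat.of k)) :=
  Over.mk (Spec.map (CommRingCat.ofHom (algebraMap k K)))

/-- A closed subscheme of a geometrically reduced scheme with dense set of points above it after
extending the field is everything. -/
theorem isIso_of_dense {X Z : Over (Spec (CommRingCat.of k))} [GeometricallyReduced X.hom] (c : Z ⟶ X)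
    [IsClosedImmersion c.left]
    (hd : Dense {p : ↥(pullback X.hom (Spec.map (CommRingCat.ofHom (algebraMap k K)))) |
      ∃ (x : pt k K ⟶ X) (s : Spec (CommRingCat.of K) ⟶ pullback X.hom (Spec.map (CommRingCat.ofHom (algebraMap k K))))
        (t : ↥(Spec (CommRingCat.of K))), s ≫ pullback.fst _ _ = x.left ∧ s.base t = p})
    (h : ∀ x : pt k K ⟶ X, ∃ z : pt k K ⟶ Z, z ≫ c = x) : IsIso c := by
  let ξ := Spec.map (CommRingCat.ofHom (algebraMap k K))
  let p : pullback X.hom ξ ⟶ X.left := pullback.fst X.hom ξ
  haveI : AlgebraicGeometry.IsReduced (pullback X.hom ξ) :=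
    GeometricallyReduced.geometrically_isReduced (f := X.hom) ξ _ _ (IsPullback.of_hasPullback X.hom ξ)
  haveI : IsClosedImmersion (pullback.snd c.left p) := MorphismProperty.pullback_snd _ _ inferInstance
  haveI : Surjective (pullback.snd c.left p) := by
    refine ⟨fun q => ?_⟩
    have hcl : IsClosed (Set.range (pullback.snd c.left p).base) :=
      (pullback.snd c.left p).isClosedEmbedding.isClosed_range
    refine hcl.closure_subset_iff.mpr ?_ (hd q)
    rintro _ ⟨x, s, t, hs, rfl⟩
    obtain ⟨z, hz⟩ := h x
    exact ⟨(pullback.lift z.left s (by rw [← Over.comp_left, hz]; exact hs.symm)).base t, by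
      rw [← Scheme.Hom.comp_apply, pullback.lift_snd]; rfl⟩
  haveI := isIso_of_isClosedImmersion_of_surjective (pullback.snd c.left p)
  have hQ : (@Surjective ⊓ @Flat ⊓ @QuasiCompact : MorphismProperty Scheme) p :=
    ⟨⟨MorphismProperty.pullback_fst (P := @Surjective) _ _ inferInstance,
      MorphismProperty.pullback_fst (P := @Flat) _ _ inferInstance⟩,
      MorphismProperty.pullback_fst (P := @QuasiCompact) _ _ inferInstance⟩
  haveI : IsIso ((Over.forget _).map c) :=
    MorphismProperty.of_isPullback_of_descendsAlong (P := MorphismProperty.isomorphisms Scheme.{u})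
      (IsPullback.of_hasPullback c.left p).flip hQ (MorphismProperty.isomorphisms.infer_property _)
  exact isIso_of_reflects_iso c (Over.forget _)

/-- Over a separably closed extension the rational points of a geometrically reduced scheme are dense. -/
theorem dense_points [IsSepClosed K] {X : Over (Spec (CommRingCat.of k))} [LocallyOfFiniteType X.hom]
    [GeometricallyReduced X.hom] :
    Dense {p : ↥(pullback X.hom (Spec.map (CommRingCat.ofHom (algebraMap k K)))) |
      ∃ (x : pt k K ⟶ X) (s : Spec (CommRingCat.of K) ⟶ pullback X.hom (Spec.map (CommRingCat.ofHom (algebraMap k K))))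
        (t : ↥(Spec (CommRingCat.of K))), s ≫ pullback.fst _ _ = x.left ∧ s.base t = p} := by
  let ξ := Spec.map (CommRingCat.ofHom (algebraMap k K))
  let f : pullback X.hom ξ ⟶ Spec (CommRingCat.of K) := pullback.snd X.hom ξ
  haveI : GeometricallyReduced f := MorphismProperty.pullback_snd (P := @GeometricallyReduced) _ _ inferInstance
  haveI : AlgebraicGeometry.IsReduced (pullback X.hom ξ) :=
    GeometricallyReduced.geometrically_isReduced (f := X.hom) ξ _ _ (IsPullback.of_hasPullback X.hom ξ)
  haveI : LocallyOfFiniteType f := MorphismProperty.pullback_snd _ _ inferInstance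
  rw [dense_iff_inter_open]
  intro W hW ⟨w, hwW⟩
  let W' : (pullback X.hom ξ).Opens := ⟨W, hW⟩
  haveI : Nonempty W'.toScheme := ⟨⟨w, hwW⟩⟩
  haveI : GeometricallyReduced (W'.ι ≫ f) := GeomRedFieldLib.gr_comp f W'.ι
  haveI : LocallyOfFinitePresentation (W'.ι ≫ f) := LocallyOfFinitePresentation.iff_locallyOfFiniteType.2 inferInstance
  haveI : AlgebraicGeometry.IsReduced W'.toScheme := isReduced_of_isOpenImmersion W'.ι
  obtain ⟨a, ha, -⟩ := GenusZeroLib.exists_rational_point (W'.ι ≫ f)
  let s : Spec (CommRingCat.of K) ⟶ pullback X.hom ξ := a ≫ W'.ι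
  refine ⟨s.base (IsLocalRing.closedPoint K), ?_,
    Over.homMk (s ≫ pullback.fst _ _) ?_, s, IsLocalRing.closedPoint K, rfl, rfl⟩
  · exact (a.base (IsLocalRing.closedPoint K)).2
  · show (s ≫ pullback.fst _ _) ≫ X.hom = ξ
    rw [Category.assoc, pullback.condition]
    show a ≫ W'.ι ≫ pullback.snd X.hom ξ ≫ ξ = ξ
    rw [← Category.assoc W'.ι, ← Category.assoc a, ha, Category.id_comp]

/-- Points in a separably closed extension are schematically dense in a geometrically reduced scheme. -/
theorem isIso_of_points [IsSepClosed K] {X Z : Over (Spec (CommRingCat.of k))} [LocallyOfFiniteType X.hom]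
    [GeometricallyReduced X.hom] (c : Z ⟶ X) [IsClosedImmersion c.left]
    (h : ∀ x : pt k K ⟶ X, ∃ z : pt k K ⟶ Z, z ≫ c = x) : IsIso c :=
  isIso_of_dense c (dense_points (K := K)) h

/-- A morphism into a scheme containing a closed subscheme factors through it if it does on points. -/
theorem factors_of_points [IsSepClosed K] {X Y Z : Over (Spec (CommRingCat.of k))} [LocallyOfFiniteType X.hom]
    [GeometricallyReduced X.hom] (φ : X ⟶ Y) (c : Z ⟶ Y) [IsClosedImmersion c.left]
    (h : ∀ x : pt k K ⟶ X, ∃ z : pt k K ⟶ Z, z ≫ c = x ≫ φ) : ∃ ψ : X ⟶ Z, ψ ≫ c = φ := by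
  let P : Over (Spec (CommRingCat.of k)) := Over.mk (pullback.snd c.left φ.left ≫ X.hom)
  let i : P ⟶ X := Over.homMk (pullback.snd c.left φ.left) rfl
  haveI : IsClosedImmersion i.left :=
    (MorphismProperty.pullback_snd _ _ inferInstance : IsClosedImmersion (pullback.snd c.left φ.left))
  let j : P ⟶ Z := Over.homMk (pullback.fst c.left φ.left) (by
    show pullback.fst c.left φ.left ≫ Z.hom = pullback.snd c.left φ.left ≫ X.hom
    rw [← Over.w c, ← Category.assoc, pullback.condition, Category.assoc, Over.w φ])
  have hij : j ≫ c = i ≫ φ := Over.OverMorphism.ext pullback.condition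
  haveI : IsIso i := isIso_of_points (K := K) i fun x => by
    obtain ⟨z, hz⟩ := h x
    refine ⟨Over.homMk (pullback.lift z.left x.left (congrArg CommaMorphism.left hz)) ?_,
      Over.OverMorphism.ext (pullback.lift_snd _ _ _)⟩
    show pullback.lift _ _ _ ≫ pullback.snd _ _ ≫ X.hom = _
    rw [pullback.lift_snd_assoc, Over.w x]
  exact ⟨inv i ≫ j, by rw [Category.assoc, hij, IsIso.inv_hom_id_assoc]⟩

/-- Morphisms into a separated scheme agreeing on points are equal. -/
theorem hom_ext_of_points [IsSepClosed K] {X Y : Over (Spec (CommRingCat.of k))} [LocallyOfFiniteType X.hom]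
    [GeometricallyReduced X.hom] [IsSeparated Y.hom] (φ ψ : X ⟶ Y)
    (h : ∀ x : pt k K ⟶ X, x ≫ φ = x ≫ ψ) : φ = ψ := by
  obtain ⟨T, t, ht, hT⟩ := Groth.Agent.WeilRes.exists_eqz φ ψ
  haveI := ht
  haveI : IsIso t := isIso_of_points (K := K) t fun x => (hT _ x).2 (h x)
  simpa using (hT X (𝟙 X)).1 ⟨inv t, IsIso.inv_hom_id t⟩

/-- Two geometrically reduced closed subschemes with the same points are equal. -/
theorem iso_of_points [IsSepClosed K] {X Z Z' : Over (Spec (CommRingCat.of k))}
    (c : Z ⟶ X) [IsClosedImmersion c.left] [GeometricallyReduced Z.hom] [LocallyOfFiniteType Z.hom]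
    (c' : Z' ⟶ X) [IsClosedImmersion c'.left] [GeometricallyReduced Z'.hom] [LocallyOfFiniteType Z'.hom]
    (h : ∀ x : pt k K ⟶ X, (∃ z, z ≫ c = x) ↔ (∃ z', z' ≫ c' = x)) :
    ∃ e : Z ≅ Z', e.hom ≫ c' = c := by
  obtain ⟨a, ha⟩ := factors_of_points (K := K) c c' fun z => (h _).1 ⟨z, rfl⟩
  obtain ⟨b, hb⟩ := factors_of_points (K := K) c' c fun z => (h _).2 ⟨z, rfl⟩
  haveI : Mono c := Over.mono_of_mono_left c
  haveI : Mono c' := Over.mono_of_mono_left c'
  exact ⟨⟨a, b, (cancel_mono c).1 (by rw [Category.assoc, hb, ha, Category.id_comp]),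
    (cancel_mono c').1 (by rw [Category.assoc, ha, hb, Category.id_comp])⟩, ha⟩

end Groth.Agent.DensePts
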